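import Cfsg.Agent.R2.T1.Inf.Cnt_m3
import Cfsg.Agent.R2.T1.Odd.El
import Cfsg.Agent.Prune
set_option linter.all false

section
prune_inst 0x7f00000000000000000000000000000000000000000000000000000000000000000000000000000000000000000000000000000000000000000000000000000000000000000000000000000000000000003fffffffffffffffffffffffffffbeffbdffffffff

-- part: R2/T1/Odd/Typ
section
set_option linter.all false
open scoped Cfsg.Agent.FastGrp

-- part: R2/T1/Odd/Tab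
section
/-!
# S5771, ODD5: tables of subgroups of `A_8` (helper11)

`Q = V₄ × V₄` (order 16), `Qs = Q⟨(04)(15)(26)(37)⟩`, `Qj = Q⟨(01)(45)⟩` (order 32), `A4`, `S4` (acting on `{0,1,2,3}` and
`{4,5}`), `Qy = Q⟨(012)(456)⟩` (order 48), `K` (order 16).
-/

set_option autoImplicit false
set_option maxRecDepth 100000

namespace Cfsg.Agent.R2.T1.Odd

/-- representatives of the classes: `1`, `2²`, `2⁴`, `42`, `44`, `3`, `33` -/
def r8 : List (List (ℕ × ℕ)) :=
  [[], [(0, 1), (2, 3)], [(0, 1), (2, 3), (4, 5), (6, 7)], [(0, 1), (1, 2), (2, 3), (4, 5)], [(0, 1), (1, 2), (2,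
   3), (4, 5), (5, 6), (6, 7)], [(0, 1), (1, 2)], [(0, 1), (1, 2), (4, 5), (5, 6)]]

def gQ : List (List (ℕ × ℕ)) :=
  [[(0, 1), (2, 3)], [(0, 2), (1, 3)], [(4, 5), (6, 7)], [(4, 6), (5, 7)]]

def eQ : List (List ℕ) :=
  [[], [0], [1], [2], [3], [1, 0], [2, 0], [3, 0], [2, 1], [3, 1], [3, 2], [2, 1, 0], [3, 1, 0], [3, 2, 0], [3, 2,
   1], [3, 2, 1, 0]]

def dQ : List (ℕ × List (ℕ × ℕ)) :=
  [(0, []), (1, []), (1, [(0, 1), (1, 3), (4, 7), (5, 6)]), (1, [(0, 4), (1, 5), (2, 6), (3, 7)]), (1, [(0, 7), (7,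
   1), (1, 5), (2, 6), (6, 3), (3, 4)]), (1, [(1, 3), (3, 2)]), (2, []), (2, [(0, 6), (6, 1), (1, 4), (4, 2), (2,
   7), (3, 5)]), (2, [(0, 3), (3, 2), (4, 5), (6, 7)]), (2, [(1, 2), (5, 6)]), (1, [(0, 4), (1, 7), (7, 3), (3, 6),
   (6, 2), (2, 5)]), (2, [(1, 3), (3, 2)]), (2, [(0, 5), (5, 3), (3, 6), (6, 2), (2, 4), (1, 7)]), (2, [(5, 7), (7,
   6)]), (2, [(0, 2), (2, 3), (3, 1), (4, 5), (5, 6), (6, 7)]), (2, [(1, 3), (3, 2), (5, 7), (7, 6)])]

def gQs : List (List (ℕ × ℕ)) :=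
  [[(0, 1), (2, 3)], [(0, 2), (1, 3)], [(4, 5), (6, 7)], [(4, 6), (5, 7)], [(0, 4), (1, 5), (2, 6), (3, 7)]]

def eQs : List (List ℕ) :=
  [[], [0], [1], [2], [3], [4], [1, 0], [2, 0], [3, 0], [4, 0], [2, 1], [3, 1], [4, 1], [3, 2], [4, 2], [4, 3], [2,
   1, 0], [3, 1, 0], [4, 1, 0], [3, 2, 0], [4, 2, 0], [4, 3, 0], [3, 2, 1], [4, 2, 1], [4, 3, 1], [4, 3, 2], [3, 2,
   1, 0], [4, 2, 1, 0], [4, 3, 1, 0], [4, 3, 2, 0], [4, 3, 2, 1], [4, 3, 2, 1, 0]]

def dQs : List (ℕ × List (ℕ × ℕ)) :=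
  [(0, []), (1, []), (1, [(0, 1), (1, 3), (4, 7), (5, 6)]), (1, [(0, 4), (1, 5), (2, 6), (3, 7)]), (1, [(0, 6), (6,
   2), (2, 7), (1, 4), (4, 3), (3, 5)]), (2, [(1, 4), (4, 2), (3, 5), (5, 6)]), (1, [(1, 3), (3, 2)]), (2, []), (2,
   [(0, 6), (6, 1), (1, 4), (4, 7)]), (4, [(1, 5), (5, 7), (7, 6), (6, 3), (3, 4), (4, 2)]), (2, [(0, 6), (6, 1),
   (1, 7), (7, 3), (3, 4), (2, 5)]), (2, [(1, 2), (5, 6)]), (4, [(1, 6), (6, 3), (3, 4), (5, 7)]), (1, [(0, 4), (1,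
   7), (7, 3), (3, 6), (6, 2), (2, 5)]), (4, [(1, 4), (4, 2), (3, 5), (5, 6)]), (4, [(1, 4), (3, 6)]), (2, [(1, 3),
   (3, 2)]), (2, [(0, 4), (4, 3), (3, 2), (2, 1), (1, 6), (6, 5)]), (4, [(1, 7), (7, 5), (5, 6), (6, 2), (2, 3),
   (3, 4)]), (2, [(5, 7), (7, 6)]), (2, [(1, 5), (5, 7), (7, 6), (6, 3), (3, 4), (4, 2)]), (4, [(1, 5), (5, 4), (2,
   3), (3, 6)]), (2, [(0, 7), (7, 5), (5, 2), (2, 3), (3, 1), (1, 4)]), (4, [(1, 6), (6, 2), (2, 3), (3, 5), (5,
   7), (7, 4)]), (2, [(1, 6), (6, 3), (3, 7), (7, 5), (5, 4), (4, 2)]), (4, [(1, 4), (2, 3), (3, 7), (7, 6)]), (2,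
   [(1, 3), (3, 2), (5, 7), (7, 6)]), (4, [(1, 7), (7, 4), (3, 5), (5, 6)]), (4, [(1, 7), (7, 4), (4, 2), (3, 6)]),
   (4, [(1, 5), (5, 4), (3, 7), (7, 6)]), (4, [(1, 6), (6, 3), (3, 7), (7, 5), (5, 4), (4, 2)]), (2, [(1, 7), (7,
   4), (4, 2), (3, 6)])]

def gQj : List (List (ℕ × ℕ)) :=
  [[(0, 1), (2, 3)], [(0, 2), (1, 3)], [(4, 5), (6, 7)], [(4, 6), (5, 7)], [(0, 1), (4, 5)]]

def eQj : List (List ℕ) :=
  [[], [0], [1], [2], [3], [4], [1, 0], [2, 0], [3, 0], [4, 0], [2, 1], [3, 1], [4, 1], [3, 2], [4, 2], [4, 3], [1,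
   4], [3, 4], [2, 1, 0], [3, 1, 0], [3, 2, 0], [4, 2, 0], [4, 3, 0], [3, 4, 0], [3, 2, 1], [4, 2, 1], [4, 3, 1],
   [3, 4, 1], [1, 4, 2], [1, 4, 3], [3, 1, 4], [3, 2, 1, 0]]

def dQj : List (ℕ × List (ℕ × ℕ)) :=
  [(0, []), (1, []), (1, [(0, 2), (2, 1), (4, 6), (5, 7)]), (1, [(0, 4), (1, 5), (2, 6), (3, 7)]), (1, [(0, 7), (7,
   3), (3, 6), (1, 5), (5, 2), (2, 4)]), (1, [(2, 4), (3, 5)]), (1, [(1, 3), (3, 2)]), (2, []), (2, [(0, 7), (7,
   3), (1, 5), (5, 4), (4, 6), (6, 2)]), (1, [(0, 2), (2, 4), (1, 3), (3, 5)]), (2, [(0, 4), (4, 1), (1, 5), (5,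
   3)]), (2, [(1, 2), (5, 6)]), (3, [(0, 2), (2, 3), (4, 5), (6, 7)]), (1, [(0, 4), (1, 7), (7, 3), (3, 6), (6, 2),
   (2, 5)]), (1, [(2, 6), (6, 4), (3, 7), (7, 5)]), (3, [(0, 4), (4, 1), (1, 6), (6, 2), (2, 5), (3, 7)]), (3, [(1,
   3), (3, 2)]), (3, [(0, 4), (1, 7), (7, 3), (3, 6), (6, 2), (2, 5)]), (2, [(1, 3), (3, 2)]), (2, [(0, 1), (1, 2),
   (2, 4), (4, 7), (7, 3), (3, 6)]), (2, [(5, 7), (7, 6)]), (1, [(0, 2), (2, 6), (6, 4), (1, 3), (3, 7), (7, 5)]),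
   (3, [(0, 5), (5, 3), (3, 6), (6, 1), (1, 7), (2, 4)]), (3, [(0, 4), (4, 2), (2, 5), (5, 3), (3, 6), (1, 7)]),
   (2, [(0, 1), (1, 3), (3, 6), (6, 2), (2, 5), (5, 7)]), (3, [(0, 2), (2, 3), (4, 6), (5, 7)]), (4, [(1, 2), (5,
   6)]), (4, [(0, 7), (7, 2), (2, 6), (1, 5), (5, 3), (3, 4)]), (3, [(1, 3), (3, 2), (4, 6), (5, 7)]), (4, [(0, 7),
   (7, 3), (3, 5), (5, 2), (2, 6), (1, 4)]), (4, [(1, 3), (3, 2), (5, 7), (7, 6)]), (2, [(1, 3), (3, 2), (5, 7),
   (7, 6)])]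

def gA4 : List (List (ℕ × ℕ)) :=
  [[(0, 1), (2, 3)], [(0, 2), (1, 3)], [(0, 1), (1, 2)]]

def eA4 : List (List ℕ) :=
  [[], [0], [1], [2], [1, 0], [2, 0], [2, 1], [1, 2], [2, 2], [2, 2, 0], [2, 2, 1], [2, 1, 2]]

def dA4 : List (ℕ × List (ℕ × ℕ)) :=
  [(0, []), (1, []), (1, [(0, 3), (4, 7)]), (5, []), (1, [(1, 3), (3, 2)]), (5, [(1, 2), (2, 3)]), (5, [(0, 1), (1,
   3)]), (5, [(1, 3), (3, 2)]), (5, [(0, 1), (4, 5), (5, 6), (6, 7)]), (5, [(0, 3), (3, 6), (6, 4), (5, 7)]), (5,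
   [(0, 3), (3, 5), (5, 7), (7, 6), (6, 2), (2, 1)]), (5, [(0, 2), (2, 3), (3, 7), (7, 1)])]

def gS4 : List (List (ℕ × ℕ)) :=
  [[(0, 1), (2, 3)], [(0, 2), (1, 3)], [(0, 1), (1, 2)], [(0, 1), (4, 5)]]

def eS4 : List (List ℕ) :=
  [[], [0], [1], [2], [3], [1, 0], [2, 0], [3, 0], [2, 1], [3, 1], [1, 2], [2, 2], [3, 2], [1, 3], [2, 3], [2, 2,
   0], [3, 2, 0], [2, 3, 0], [2, 2, 1], [3, 2, 1], [2, 3, 1], [2, 1, 2], [3, 1, 2], [2, 1, 3]]

def dS4 : List (ℕ × List (ℕ × ℕ)) :=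
  [(0, []), (1, []), (1, [(0, 3), (4, 6), (6, 7), (7, 5)]), (5, []), (1, [(2, 4), (3, 5)]), (1, [(1, 3), (3, 2)]),
   (5, [(1, 2), (2, 3)]), (1, [(0, 2), (2, 4), (1, 3), (3, 5)]), (5, [(0, 1), (1, 3)]), (3, [(0, 2), (2, 3), (4,
   5), (6, 7)]), (5, [(1, 3), (3, 2)]), (5, [(0, 1), (3, 4), (4, 7), (5, 6)]), (1, [(0, 1), (1, 2), (2, 4), (3,
   5)]), (3, [(1, 3), (3, 2)]), (1, [(1, 2), (2, 5), (5, 6), (3, 4)]), (5, [(0, 2), (2, 1), (1, 3), (3, 5), (5, 4),
   (4, 6)]), (3, [(1, 2), (2, 3)]), (3, []), (5, [(0, 1), (1, 3), (3, 7), (7, 4), (4, 6), (6, 2)]), (3, [(0, 1),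
   (1, 3)]), (1, [(0, 4), (4, 7), (7, 6), (6, 2), (2, 1), (1, 5)]), (5, [(0, 3), (3, 7), (7, 4), (4, 6), (6, 1),
   (1, 2)]), (1, [(1, 3), (3, 5), (5, 2), (2, 4)]), (3, [(0, 3), (1, 2)])]

def gQy : List (List (ℕ × ℕ)) :=
  [[(0, 1), (2, 3)], [(0, 2), (1, 3)], [(4, 5), (6, 7)], [(4, 6), (5, 7)], [(0, 1), (1, 2), (4, 5), (5, 6)]]

def eQy : List (List ℕ) :=
  [[], [0], [1], [2], [3], [4], [1, 0], [2, 0], [3, 0], [4, 0], [2, 1], [3, 1], [4, 1], [3, 2], [4, 2], [4, 3], [1,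
   4], [3, 4], [4, 4], [2, 1, 0], [3, 1, 0], [3, 2, 0], [4, 2, 0], [4, 3, 0], [3, 4, 0], [4, 4, 0], [3, 2, 1], [4,
   2, 1], [4, 3, 1], [3, 4, 1], [4, 4, 1], [1, 4, 2], [4, 4, 2], [1, 4, 3], [4, 4, 3], [3, 1, 4], [4, 1, 4], [4, 3,
   4], [3, 2, 1, 0], [4, 4, 2, 0], [4, 4, 3, 0], [4, 3, 4, 0], [4, 4, 2, 1], [4, 4, 3, 1], [4, 3, 4, 1], [4, 1, 4,
   2], [4, 1, 4, 3], [4, 3, 1, 4]]

def dQy : List (ℕ × List (ℕ × ℕ)) :=
  [(0, []), (1, []), (1, [(1, 2), (5, 7)]), (1, [(0, 4), (1, 5), (2, 6), (3, 7)]), (1, [(0, 6), (1, 4), (4, 3), (3,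
   5), (5, 2), (2, 7)]), (6, []), (1, [(1, 3), (3, 2)]), (2, []), (2, [(0, 2), (2, 6), (6, 1), (1, 3), (3, 4), (4,
   7)]), (6, [(1, 2), (2, 3)]), (2, [(0, 5), (5, 3), (3, 7), (7, 2), (2, 6), (1, 4)]), (2, [(1, 2), (5, 6)]), (6,
   [(0, 1), (1, 3)]), (1, [(0, 4), (1, 7), (7, 3), (3, 6), (6, 2), (2, 5)]), (6, [(5, 6), (6, 7)]), (6, [(4, 5),
   (5, 7)]), (6, [(1, 3), (3, 2)]), (6, [(5, 7), (7, 6)]), (6, [(1, 2), (5, 6)]), (2, [(1, 3), (3, 2)]), (2, [(0,
   2), (4, 6), (6, 7), (7, 5)]), (2, [(5, 7), (7, 6)]), (6, [(1, 2), (2, 3), (5, 6), (6, 7)]), (6, [(1, 2), (2, 3),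
   (4, 5), (5, 7)]), (6, [(1, 2), (2, 3), (5, 7), (7, 6)]), (6, [(0, 1), (1, 2), (2, 3), (5, 6)]), (2, [(0, 2), (2,
   1), (4, 5), (5, 6)]), (6, [(0, 1), (1, 3), (5, 6), (6, 7)]), (6, [(0, 1), (1, 3), (4, 5), (5, 7)]), (6, [(0, 1),
   (1, 3), (5, 7), (7, 6)]), (6, [(2, 3), (5, 6)]), (6, [(1, 3), (3, 2), (5, 6), (6, 7)]), (6, [(1, 2), (4, 5), (5,
   6), (6, 7)]), (6, [(1, 3), (3, 2), (4, 5), (5, 7)]), (6, [(1, 2), (6, 7)]), (6, [(1, 3), (3, 2), (5, 7), (7,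
   6)]), (6, [(1, 3), (5, 6)]), (6, [(1, 2), (5, 7)]), (2, [(1, 3), (3, 2), (5, 7), (7, 6)]), (6, [(0, 1), (1, 2),
   (2, 3), (4, 5), (5, 6), (6, 7)]), (6, [(0, 1), (1, 2), (2, 3), (6, 7)]), (6, [(0, 1), (1, 2), (2, 3), (5, 7)]),
   (6, [(2, 3), (4, 5), (5, 6), (6, 7)]), (6, [(2, 3), (6, 7)]), (6, [(2, 3), (5, 7)]), (6, [(1, 3), (4, 5), (5,
   6), (6, 7)]), (6, [(1, 3), (6, 7)]), (6, [(1, 3), (5, 7)])]

def gK : List (List (ℕ × ℕ)) :=
  [[(0, 3), (1, 2), (4, 7), (5, 6)], [(0, 3), (3, 1), (1, 2), (4, 5)]]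

def eK : List (List ℕ) :=
  [[], [0], [1], [1, 0], [0, 1], [1, 1], [0, 1, 0], [1, 1, 0], [1, 0, 1], [1, 1, 1], [1, 0, 1, 0], [1, 1, 1, 0],
   [1, 1, 0, 1], [1, 1, 0, 1, 0], [1, 1, 1, 0, 1], [1, 1, 1, 0, 1, 0]]

def dK : List (ℕ × List (ℕ × ℕ)) :=
  [(0, []), (2, [(1, 3), (3, 2), (5, 7), (7, 6)]), (3, [(1, 3), (3, 2)]), (3, [(0, 4), (1, 7), (7, 3), (3, 6), (6,
   2), (2, 5)]), (3, [(0, 7), (7, 1), (1, 4), (4, 2), (2, 6), (3, 5)]), (1, []), (3, [(1, 2), (4, 7), (7, 5), (5,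
   6)]), (2, [(0, 3), (3, 7), (2, 4), (4, 6)]), (2, [(1, 3), (3, 7), (7, 4), (2, 5)]), (3, [(1, 2), (6, 7)]), (1,
   [(0, 4), (1, 5), (2, 6), (3, 7)]), (3, [(0, 4), (4, 2), (2, 5), (5, 3), (3, 6), (1, 7)]), (3, [(0, 5), (1, 7),
   (7, 3), (3, 6), (6, 2), (2, 4)]), (3, [(1, 3), (3, 2), (4, 6), (5, 7)]), (2, [(1, 2), (5, 6)]), (2, [])]

theorem chkG_Q : chkG 8 gQ eQ = true := Fq.chkG_of 86 (by decide +kernel)
theorem chkC_Q : chkC 8 gQ eQ [] r8 dQ = true := Fq.chkC_of (by decide +kernel)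
theorem len_Q : eQ.length = 16 := by decide +kernel
theorem cnt_Q : (List.range 7).map (fun k => (dQ.map Prod.fst).count k) = [1, 6, 9, 0, 0, 0, 0] := by decide +kernel

theorem chkG_Qs : chkG 8 gQs eQs = true := Fq.chkG_of 157 (by decide +kernel)
theorem chkC_Qs : chkC 8 gQs eQs [] r8 dQs = true := Fq.chkC_of (by decide +kernel)
theorem len_Qs : eQs.length = 32 := by decide +kernel
theorem cnt_Qs : (List.range 7).map (fun k => (dQs.map Prod.fst).count k) = [1, 6, 13, 0, 12, 0, 0] := by decide +kernel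

theorem chkG_Qj : chkG 8 gQj eQj = true := Fq.chkG_of 247 (by decide +kernel)
theorem chkC_Qj : chkC 8 gQj eQj [] r8 dQj = true := Fq.chkC_of (by decide +kernel)
theorem len_Qj : eQj.length = 32 := by decide +kernel
theorem cnt_Qj : (List.range 7).map (fun k => (dQj.map Prod.fst).count k) = [1, 10, 9, 8, 4, 0, 0] := by decide +kernel

theorem chkG_A4 : chkG 8 gA4 eA4 = true := Fq.chkG_of 40 (by decide +kernel)
theorem chkC_A4 : chkC 8 gA4 eA4 [] r8 dA4 = true := Fq.chkC_of (by decide +kernel)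
theorem len_A4 : eA4.length = 12 := by decide +kernel
theorem cnt_A4 : (List.range 7).map (fun k => (dA4.map Prod.fst).count k) = [1, 3, 0, 0, 0, 8, 0] := by decide +kernel

theorem chkG_S4 : chkG 8 gS4 eS4 = true := Fq.chkG_of 131 (by decide +kernel)
theorem chkC_S4 : chkC 8 gS4 eS4 [] r8 dS4 = true := Fq.chkC_of (by decide +kernel)
theorem len_S4 : eS4.length = 24 := by decide +kernel
theorem cnt_S4 : (List.range 7).map (fun k => (dS4.map Prod.fst).count k) = [1, 9, 0, 6, 0, 8, 0] := by decide +kernel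

theorem chkG_Qy : chkG 8 gQy eQy = true := Fq.chkG_of 301 (by decide +kernel)
theorem chkC_Qy : chkC 8 gQy eQy [] r8 dQy = true := Fq.chkC_of (by decide +kernel)
theorem len_Qy : eQy.length = 48 := by decide +kernel
theorem cnt_Qy : (List.range 7).map (fun k => (dQy.map Prod.fst).count k) = [1, 6, 9, 0, 0, 0, 32] := by decide +kernel

theorem chkG_K : chkG 8 gK eK = true := Fq.chkG_of 79 (by decide +kernel)
theorem chkC_K : chkC 8 gK eK [] r8 dK = true := Fq.chkC_of (by decide +kernel)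
theorem len_K : eK.length = 16 := by decide +kernel
theorem cnt_K : (List.range 7).map (fun k => (dK.map Prod.fst).count k) = [1, 2, 5, 8, 0, 0, 0] := by decide +kernel

end Cfsg.Agent.R2.T1.Odd
end

-- part: R2/T1/Odd/Typ
section
/-!
# S5771, ODD5: the types of the 2-elements, `p` odd (helper11)

* `E_t`, `E_s`, `E_42`, `E_44` : `ev` = 32, 24, 16, 12 on `V` for the elements of type `2²`, `2⁴`, `42`, `44` of `A_n`, `n ≥ 8`,
  for every odd `p`;
* `fr_Q`, `fr_Qs`, `fr_Qj` : the fixed points of `Q`, `Q⟨s'⟩`, `Q⟨j⟩` have dimensions 2, 0, 2.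
-/

set_option autoImplicit false
set_option maxRecDepth 100000

namespace Cfsg.Agent.R2.T1.Odd

open Cfsg Cfsg.Lie Module
open Cfsg.Agent.H943.E7V.Block (D1 rho)
open Cfsg.Agent.H952.F4 (ev es)
open Cfsg.Agent.R2.T1.Art

universe u v

/-! ### powers -/

section pow
variable {n : ℕ} [NeZero n]

/-- powers -/
def pwl (l : List (ℕ × ℕ)) (k : ℕ) : List (ℕ × ℕ) := (List.replicate k l).flatten

theorem vl_pwl {m : ℕ} {l : List (ℕ × ℕ)} (h : vl m l = true) (k : ℕ) : vl m (pwl l k) = true := by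
  induction k with
  | zero => rfl
  | succ k ih =>
    have h1 : pwl l (k + 1) = l ++ pwl l k := rfl
    rw [h1]
    exact vl_append h ih

theorem P_pwl {m : ℕ} (hm : m ≤ n) {l : List (ℕ × ℕ)} (h : vl m l = true) (k : ℕ) : P n (pwl l k) = P n l ^ k := by
  induction k with
  | zero => rw [pow_zero]; exact P_nil
  | succ k ih =>
    have h1 : pwl l (k + 1) = l ++ pwl l k := rfl
    rw [h1, P_append hm h (vl_pwl h k), ih, pow_succ']

theorem P_pow_eq {m : ℕ} (hm : m ≤ n) {l l' : List (ℕ × ℕ)} (h : vl m l = true) (h' : vl m l' = true) {k : ℕ}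
    (hc : cd m (pwl l k) = cd m l') : P n l ^ k = P n l' := by
  rw [← P_pwl hm h, P_eq_iff hm (vl_pwl h k) h']
  exact hc

theorem P_pow_one {m : ℕ} (hm : m ≤ n) {l : List (ℕ × ℕ)} (h : vl m l = true) {k : ℕ}
    (hc : cd m (pwl l k) = cd m []) : P n l ^ k = 1 := by
  rw [P_pow_eq hm h (l' := []) rfl hc, P_nil]

theorem P_ne {m : ℕ} (hm : m ≤ n) {l l' : List (ℕ × ℕ)} (h : vl m l = true) (h' : vl m l' = true)
    (hc : cd m l ≠ cd m l') : P n l ≠ P n l' := by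
  rw [Ne, P_eq_iff hm h h']
  exact hc

/-- the check of the order -/
def chkO (m : ℕ) (l : List (ℕ × ℕ)) (r : ℕ) : Bool :=
  vl m l && decide (0 < r) && cd m (pwl l r) == cd m [] && r.primeFactorsList.all fun q => !(cd m (pwl l (r / q)) == cd m [])

theorem orderOf_P {m : ℕ} (hm : m ≤ n) {l : List (ℕ × ℕ)} {r : ℕ} (h : chkO m l r = true) : orderOf (P n l) = r := by
  unfold chkO at h
  simp only [Bool.and_eq_true, decide_eq_true_eq, beq_iff_eq] at h
  obtain ⟨⟨⟨h1, h2⟩, h3⟩, h4⟩ := h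
  apply orderOf_eq_of_pow_and_pow_div_prime h2 (P_pow_one hm h1 h3)
  intro q hq hqr h5
  have h6 := List.all_eq_true.1 h4 q ((Nat.mem_primeFactorsList h2.ne').2 ⟨hq, hqr⟩)
  rw [← P_pwl hm h1, ← P_nil, P_eq_iff hm (vl_pwl h1 _) rfl] at h5
  rw [h5] at h6
  simp at h6

end pow

/-! ### dimension formulas -/

section dim
variable {n m : ℕ} [NeZero n] {gens : List (List (ℕ × ℕ))} {els : List (List ℕ)}
  {F : Type*} [Field F] [Finite F] {W : Type*} [AddCommGroup W] [Module F W] [FiniteDimensional F W]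

theorem dimC (hm : m ≤ n) (h : chkG m gens els = true) {reps : List (List (ℕ × ℕ))}
    {dat : List (ℕ × List (ℕ × ℕ))} (hC : chkC m gens els [] reps dat = true) {N K : ℕ} (hN : els.length = N)
    (hK : reps.length = K) (hF : (N : F) ≠ 0)
    {c : List ℕ} (hc : (List.range K).map (fun k => (dat.map Prod.fst).count k) = c)
    (ρ : Representation F ↥(alternatingGroup (Fin n)) W) :
    (N : ℚ) * (finrank F ↥(inv ρ (Tg n gens)) : ℚ) =
      ∑ k ∈ Finset.range K, (c.getD k 0 : ℚ) * om ρ (P n (reps.getD k [])) := by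
  subst hN hK
  rw [dimT hm h hC hF ρ]
  refine Finset.sum_congr rfl fun k hk => ?_
  have h1 : c.getD k 0 = (dat.map Prod.fst).count k := by
    have h2 : k < ((List.range reps.length).map (fun k => (dat.map Prod.fst).count k)).length := by
      rw [List.length_map, List.length_range]
      exact Finset.mem_range.1 hk
    rw [← hc, List.getD_eq_getElem _ _ h2, List.getElem_map, List.getElem_range]
  rw [h1]

end dim

/-- the elements -/
def lt : List (ℕ × ℕ) := [(0, 1), (2, 3)]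
def ls : List (ℕ × ℕ) := [(0, 1), (2, 3), (4, 5), (6, 7)]
def l42 : List (ℕ × ℕ) := [(0, 1), (1, 2), (2, 3), (4, 5)]
def l44 : List (ℕ × ℕ) := [(0, 1), (1, 2), (2, 3), (4, 5), (5, 6), (6, 7)]
def l3 : List (ℕ × ℕ) := [(0, 1), (1, 2)]
def l33 : List (ℕ × ℕ) := [(0, 1), (1, 2), (4, 5), (5, 6)]

theorem r8_eq : r8 = [[], lt, ls, l42, l44, l3, l33] := by decide

section dims
variable {n : ℕ} [NeZero n] (hn : 8 ≤ n) {F : Type*} [Field F] [Finite F] (h2 : (2 : F) ≠ 0) {W : Type*} [AddCommGroup W]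
  [Module F W] [FiniteDimensional F W] (ρ : Representation F ↥(alternatingGroup (Fin n)) W)
include hn h2

omit [NeZero n] [Finite F] hn in
theorem two_pow_ne (k : ℕ) : ((2 ^ k : ℕ) : F) ≠ 0 := by
  rw [Nat.cast_pow]
  exact pow_ne_zero k (by exact_mod_cast h2)

omit [NeZero n] [Finite F] hn in
theorem three_pow_ne (h3 : (3 : F) ≠ 0) (j k : ℕ) : ((2 ^ j * 3 ^ k : ℕ) : F) ≠ 0 := by
  rw [Nat.cast_mul, Nat.cast_pow, Nat.cast_pow]
  exact mul_ne_zero (pow_ne_zero j (by exact_mod_cast h2)) (pow_ne_zero k (by exact_mod_cast h3))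

theorem dim_Q : 16 * (finrank F ↥(inv ρ (Tg n gQ)) : ℚ) = om ρ 1 + 6 * om ρ (P n lt) + 9 * om ρ (P n ls) := by
  have h := dimC hn chkG_Q chkC_Q len_Q (K := 7) rfl (by simpa using two_pow_ne h2 4) cnt_Q ρ
  simp only [r8_eq, Finset.sum_range_succ, Finset.sum_range_zero, List.getD_cons_zero, List.getD_cons_succ, P_nil] at h
  push_cast at h
  linear_combination h

theorem dim_Qs : 32 * (finrank F ↥(inv ρ (Tg n gQs)) : ℚ) = om ρ 1 + 6 * om ρ (P n lt) + 13 * om ρ (P n ls) +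
    12 * om ρ (P n l44) := by
  have h := dimC hn chkG_Qs chkC_Qs len_Qs (K := 7) rfl (by simpa using two_pow_ne h2 5) cnt_Qs ρ
  simp only [r8_eq, Finset.sum_range_succ, Finset.sum_range_zero, List.getD_cons_zero, List.getD_cons_succ, P_nil] at h
  push_cast at h
  linear_combination h

theorem dim_Qj : 32 * (finrank F ↥(inv ρ (Tg n gQj)) : ℚ) = om ρ 1 + 10 * om ρ (P n lt) + 9 * om ρ (P n ls) +
    8 * om ρ (P n l42) + 4 * om ρ (P n l44) := by
  have h := dimC hn chkG_Qj chkC_Qj len_Qj (K := 7) rfl (by simpa using two_pow_ne h2 5) cnt_Qj ρ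
  simp only [r8_eq, Finset.sum_range_succ, Finset.sum_range_zero, List.getD_cons_zero, List.getD_cons_succ, P_nil] at h
  push_cast at h
  linear_combination h

theorem dim_K : 16 * (finrank F ↥(inv ρ (Tg n gK)) : ℚ) = om ρ 1 + 2 * om ρ (P n lt) + 5 * om ρ (P n ls) +
    8 * om ρ (P n l42) := by
  have h := dimC hn chkG_K chkC_K len_K (K := 7) rfl (by simpa using two_pow_ne h2 4) cnt_K ρ
  simp only [r8_eq, Finset.sum_range_succ, Finset.sum_range_zero, List.getD_cons_zero, List.getD_cons_succ, P_nil] at h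
  push_cast at h
  linear_combination h

theorem dim_A4 (h3 : (3 : F) ≠ 0) : 12 * (finrank F ↥(inv ρ (Tg n gA4)) : ℚ) = om ρ 1 + 3 * om ρ (P n lt) +
    8 * om ρ (P n l3) := by
  have h := dimC hn chkG_A4 chkC_A4 len_A4 (K := 7) rfl (by simpa using three_pow_ne h2 h3 2 1) cnt_A4 ρ
  simp only [r8_eq, Finset.sum_range_succ, Finset.sum_range_zero, List.getD_cons_zero, List.getD_cons_succ, P_nil] at h
  push_cast at h
  linear_combination h

theorem dim_S4 (h3 : (3 : F) ≠ 0) : 24 * (finrank F ↥(inv ρ (Tg n gS4)) : ℚ) = om ρ 1 + 9 * om ρ (P n lt) +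
    6 * om ρ (P n l42) + 8 * om ρ (P n l3) := by
  have h := dimC hn chkG_S4 chkC_S4 len_S4 (K := 7) rfl (by simpa using three_pow_ne h2 h3 3 1) cnt_S4 ρ
  simp only [r8_eq, Finset.sum_range_succ, Finset.sum_range_zero, List.getD_cons_zero, List.getD_cons_succ, P_nil] at h
  push_cast at h
  linear_combination h

theorem dim_Qy (h3 : (3 : F) ≠ 0) : 48 * (finrank F ↥(inv ρ (Tg n gQy)) : ℚ) = om ρ 1 + 6 * om ρ (P n lt) +
    9 * om ρ (P n ls) + 32 * om ρ (P n l33) := by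
  have h := dimC hn chkG_Qy chkC_Qy len_Qy (K := 7) rfl (by simpa using three_pow_ne h2 h3 4 1) cnt_Qy ρ
  simp only [r8_eq, Finset.sum_range_succ, Finset.sum_range_zero, List.getD_cons_zero, List.getD_cons_succ, P_nil] at h
  push_cast at h
  linear_combination h

end dims

/-! ### the types -/

section types
variable {n : ℕ} [NeZero n] (hn : 8 ≤ n) {F : Type u} [Field F] [Finite F] (h2 : (2 : F) ≠ 0)
  {ψ : ↥(alternatingGroup (Fin n)) →* Gh F} (hψ : ∀ a, ad F (ψ a) = 1 → a = 1)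
include hn h2 hψ

omit [Finite F] h2 in
theorem psi_ne {l : List (ℕ × ℕ)} (h : vl 8 l = true) (hc : cd 8 l ≠ cd 8 []) : ad F (ψ (P n l)) ≠ 1 := by
  intro h1
  exact P_ne hn h rfl hc (by rw [hψ _ h1, P_nil])

theorem two_cases {l : List (ℕ × ℕ)} (h : vl 8 l = true) (hc : cd 8 l ≠ cd 8 []) (hp : cd 8 (pwl l 2) = cd 8 []) :
    ev (V F (ψ (P n l))) 1 = 32 ∨ ev (V F (ψ (P n l))) 1 = 24 :=
  (two h2 (by rw [← map_mul, ← pow_two, P_pow_one hn h hp, map_one]) (psi_ne hn hψ h hc)).1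

omit [Finite F] h2 hψ in
theorem P_conj {x c r : List (ℕ × ℕ)} (hx : vl 8 x = true) (hc : vl 8 c = true) (hr : vl 8 r = true)
    (h : cd 8 (x ++ c) = cd 8 (c ++ r)) : P n x = P n c * P n r * (P n c)⁻¹ := by
  rw [← P_append hn hc hr, ← (P_eq_iff hn (vl_append hx hc) (vl_append hc hr)).2 h, P_append hn hx hc, mul_inv_cancel_right]

omit [Finite F] h2 hψ in
theorem ev_P_conj {W : Type*} [AddCommGroup W] [Module F W] (ρ : Representation F ↥(alternatingGroup (Fin n)) W)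
    {x c r : List (ℕ × ℕ)} (hx : vl 8 x = true) (hc : vl 8 c = true) (hr : vl 8 r = true)
    (h : cd 8 (x ++ c) = cd 8 (c ++ r)) (μ : F) : ev (ρ (P n x)) μ = ev (ρ (P n r)) μ := by
  rw [P_conj hn hx hc hr h, Cfsg.Agent.H944.E6T.ev_conj]

omit [Field F] [Finite F] hn h2 hψ in
theorem gQ_le_gQs : Tg n gQ ≤ Tg n gQs := by
  unfold Tg
  refine Subgroup.closure_mono ?_
  rintro x ⟨g, hg, rfl⟩
  refine ⟨g, ?_, rfl⟩
  revert g
  decide

omit [Field F] [Finite F] hn h2 hψ in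
theorem gQ_le_gQj : Tg n gQ ≤ Tg n gQj := by
  unfold Tg
  refine Subgroup.closure_mono ?_
  rintro x ⟨g, hg, rfl⟩
  refine ⟨g, ?_, rfl⟩
  revert g
  decide

/-- the data of the 2-elements -/
theorem types : ev (V F (ψ (P n lt))) 1 = 32 ∧ ev (V F (ψ (P n ls))) 1 = 24 ∧ ev (V F (ψ (P n l42))) 1 = 16 ∧
    ev (V F (ψ (P n l44))) 1 = 12 ∧ finrank F ↥(inv (MonoidHom.comp (V F) ψ) (Tg n gQ)) = 2 ∧
    finrank F ↥(inv (MonoidHom.comp (V F) ψ) (Tg n gQs)) = 0 ∧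
    finrank F ↥(inv (MonoidHom.comp (V F) ψ) (Tg n gQj)) = 2 := by
  set ρ : Representation F ↥(alternatingGroup (Fin n)) (D1 → F) := MonoidHom.comp (V F) ψ with hρ
  have e0 : om ρ 1 = 56 := by rw [om_one, finrank_V]; norm_num
  have et : om ρ (P n lt) = 2 * (ev (ρ (P n lt)) 1 : ℚ) - 56 := by
    rw [om_prime ρ Nat.prime_two (orderOf_P hn (by decide +kernel)), finrank_V]
    norm_num
  have es : om ρ (P n ls) = 2 * (ev (ρ (P n ls)) 1 : ℚ) - 56 := by
    rw [om_prime ρ Nat.prime_two (orderOf_P hn (by decide +kernel)), finrank_V]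
    norm_num
  have e42 : om ρ (P n l42) = 2 * (ev (ρ (P n l42)) 1 : ℚ) - (ev (ρ (P n lt)) 1 : ℚ) := by
    rw [om_four ρ (orderOf_P hn (by decide +kernel)), ← P_pwl hn (m := 8) (by decide),
      ev_P_conj hn ρ (x := pwl l42 2) (c := [(1, 2), (4, 5)]) (r := lt) (by decide) (by decide) (by decide) (by decide)]
  have e44 : om ρ (P n l44) = 2 * (ev (ρ (P n l44)) 1 : ℚ) - (ev (ρ (P n ls)) 1 : ℚ) := by
    rw [om_four ρ (orderOf_P hn (by decide +kernel)), ← P_pwl hn (m := 8) (by decide),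
      ev_P_conj hn ρ (x := pwl l44 2) (c := [(1, 2), (5, 6)]) (r := ls) (by decide) (by decide) (by decide) (by decide)]
  have h4t : 4 ∣ ev (ρ (P n l42)) 1 :=
    four_dvd h2 (by rw [← map_pow, P_pow_one hn (m := 8) (by decide) (by decide), map_one])
  have h4s : 4 ∣ ev (ρ (P n l44)) 1 :=
    four_dvd h2 (by rw [← map_pow, P_pow_one hn (m := 8) (by decide) (by decide), map_one])
  have ht : ev (ρ (P n lt)) 1 = 32 ∨ ev (ρ (P n lt)) 1 = 24 := two_cases hn h2 hψ (by decide) (by decide) (by decide)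
  have hs : ev (ρ (P n ls)) 1 = 32 ∨ ev (ρ (P n ls)) 1 = 24 := two_cases hn h2 hψ (by decide) (by decide) (by decide)
  have dQ := dim_Q hn h2 ρ
  have dQs := dim_Qs hn h2 ρ
  have dQj := dim_Qj hn h2 ρ
  have dK := dim_K hn h2 ρ
  have m1 : finrank F ↥(inv ρ (Tg n gQs)) ≤ finrank F ↥(inv ρ (Tg n gQ)) := Submodule.finrank_mono (inv_mono gQ_le_gQs)
  have m2 : finrank F ↥(inv ρ (Tg n gQj)) ≤ finrank F ↥(inv ρ (Tg n gQ)) := Submodule.finrank_mono (inv_mono gQ_le_gQj)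
  rw [e0, et, es] at dQ
  rw [e0, et, es, e44] at dQs
  rw [e0, et, es, e42, e44] at dQj
  rw [e0, et, es, e42] at dK
  show ev (ρ (P n lt)) 1 = 32 ∧ ev (ρ (P n ls)) 1 = 24 ∧ ev (ρ (P n l42)) 1 = 16 ∧ ev (ρ (P n l44)) 1 = 12 ∧ _ = 2 ∧ _ = 0 ∧
    _ = 2
  generalize ev (ρ (P n lt)) 1 = a at *
  generalize ev (ρ (P n ls)) 1 = b at *
  generalize ev (ρ (P n l42)) 1 = c at *
  generalize ev (ρ (P n l44)) 1 = d at *
  generalize finrank F ↥(inv ρ (Tg n gQ)) = q at *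
  generalize finrank F ↥(inv ρ (Tg n gQs)) = qs at *
  generalize finrank F ↥(inv ρ (Tg n gQj)) = qj at *
  generalize finrank F ↥(inv ρ (Tg n gK)) = k at *
  have dQ' : 16 * (q : ℤ) = 56 + 6 * (2 * a - 56) + 9 * (2 * b - 56) := by exact_mod_cast dQ
  have dQs' : 32 * (qs : ℤ) = 56 + 6 * (2 * a - 56) + 13 * (2 * b - 56) + 12 * (2 * d - b) := by exact_mod_cast dQs
  have dQj' : 32 * (qj : ℤ) = 56 + 10 * (2 * a - 56) + 9 * (2 * b - 56) + 8 * (2 * c - a) + 4 * (2 * d - b) := by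
    exact_mod_cast dQj
  have dK' : 16 * (k : ℤ) = 56 + 2 * (2 * a - 56) + 5 * (2 * b - 56) + 8 * (2 * c - a) := by exact_mod_cast dK
  omega

end types

end Cfsg.Agent.R2.T1.Odd
end
end

-- part: R2/T1/T2p/Msk
section
set_option linter.all false
open scoped Cfsg.Agent.FastGrp

/-!
# T1 (S5771, p = 2): certificates in permutation modules over the field with two elements (helper25)

* `sumM g a` : the sum of the entries of the list `g` at the binary digits of `a`;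
* `stp`, `stps`, `sms` : the action of a generator, a word, a list of words on the masks;
* `Dat`, `Dat.chk` : generators, a stabilizer, representatives of the cosets, the table of the action;
* `Op` : the sum over a list of words; `eval` : `Op ws (sumM g a) = sumM g (sms tab ws a)`.
-/

set_option autoImplicit false
set_option maxRecDepth 100000

namespace Cfsg.Agent.R2.T1.Msk

open Module Equiv Equiv.Perm
open Cfsg.Agent.R2.T1.Odd

section mask
variable {W : Type*} [AddCommGroup W]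

/-- the sum over a mask -/
def sumM : List W → ℕ → W
  | [], _ => 0
  | w :: l, a => (if a % 2 = 1 then w else 0) + sumM l (a / 2)

theorem sumM_zero (l : List W) : sumM l 0 = 0 := by
  induction l with
  | nil => rfl
  | cons w l ih =>
    show (if 0 % 2 = 1 then w else 0) + sumM l (0 / 2) = 0
    rw [Nat.zero_mod, Nat.zero_div, ih, if_neg (by norm_num), add_zero]

theorem sumM_pow (l : List W) (j : ℕ) : sumM l (2 ^ j) = l.getD j 0 := by
  induction l generalizing j with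
  | nil => rfl
  | cons w l ih =>
    show (if 2 ^ j % 2 = 1 then w else 0) + sumM l (2 ^ j / 2) = _
    cases j with
    | zero =>
      rw [pow_zero, if_pos (by norm_num), show 1 / 2 = 0 from rfl, sumM_zero, add_zero]
      rfl
    | succ j =>
      have h1 : 2 ^ (j + 1) % 2 = 0 := by omega
      have h2 : 2 ^ (j + 1) / 2 = 2 ^ j := by omega
      rw [h1, h2, if_neg (by norm_num), zero_add, ih]
      rfl

theorem sumM_xor (h2 : ∀ w : W, w + w = 0) (l : List W) (a b : ℕ) : sumM l (a ^^^ b) = sumM l a + sumM l b := by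
  induction l generalizing a b with
  | nil => exact (add_zero (0 : W)).symm
  | cons w l ih =>
    show (if (a ^^^ b) % 2 = 1 then w else 0) + sumM l ((a ^^^ b) / 2) =
      ((if a % 2 = 1 then w else 0) + sumM l (a / 2)) + ((if b % 2 = 1 then w else 0) + sumM l (b / 2))
    have e1 : (a ^^^ b) / 2 = (a / 2) ^^^ (b / 2) := by
      have := Nat.xor_div_two_pow (a := a) (b := b) (n := 1)
      simpa using this
    have e2 : (a ^^^ b) % 2 = (a + b) % 2 := Nat.xor_mod_two_eq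
    rw [e1, ih, e2]
    have ha : a % 2 = 0 ∨ a % 2 = 1 := by omega
    have hb : b % 2 = 0 ∨ b % 2 = 1 := by omega
    rcases ha with ha | ha <;> rcases hb with hb | hb
    · rw [if_neg (by omega), if_neg (by omega), if_neg (by omega)]
      abel
    · rw [if_pos (by omega), if_neg (by omega), if_pos (by omega)]
      abel
    · rw [if_pos (by omega), if_pos (by omega), if_neg (by omega)]
      abel
    · rw [if_neg (by omega), if_pos (by omega), if_pos (by omega)]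
      have := h2 w
      have h3 : (w + sumM l (a / 2)) + (w + sumM l (b / 2)) = (w + w) + (sumM l (a / 2) + sumM l (b / 2)) := by abel
      rw [h3, this]

/-- the action of a table on masks -/
def stp : List (ℕ × ℕ) → ℕ → ℕ
  | [], _ => 0
  | x :: t, a => bif Nat.beq (a % 2) 1 then Nat.xor (2 ^ x.1) (stp t (a / 2)) else stp t (a / 2)

/-- words -/
def stps (T : List (List (ℕ × ℕ))) : List ℕ → ℕ → ℕ
  | [], a => a
  | i :: w, a => stp (T.getD i []) (stps T w a)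

/-- sums over words -/
def sms (T : List (List (ℕ × ℕ))) : List (List ℕ) → ℕ → ℕ
  | [], _ => 0
  | w :: ws, a => Nat.xor (stps T w a) (sms T ws a)

theorem stp_spec (h2 : ∀ w : W, w + w = 0) (g : List W) (S : W →+ W) : ∀ (l : List W) (t : List (ℕ × ℕ)),
    l.length = t.length → (∀ e ∈ l.zip t, S e.1 = g.getD e.2.1 0) → ∀ a, S (sumM l a) = sumM g (stp t a) := by
  intro l
  induction l with
  | nil =>
    intro t h _ a
    have h1 : t = [] := List.length_eq_zero_iff.1 h.symm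
    rw [h1]
    show S 0 = sumM g 0
    rw [map_zero, sumM_zero]
  | cons w l ih =>
    intro t h h1 a
    cases t with
    | nil => simp at h
    | cons x t =>
      have h3 := h1 (w, x) (by simp)
      have h4 := ih t (by simpa using h) (fun e he => h1 e (by simp [he])) (a / 2)
      show S ((if a % 2 = 1 then w else 0) + sumM l (a / 2)) =
        sumM g (bif Nat.beq (a % 2) 1 then Nat.xor (2 ^ x.1) (stp t (a / 2)) else stp t (a / 2))
      rw [map_add, h4]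
      by_cases ha : a % 2 = 1
      · rw [if_pos ha, ha, h3, show Nat.beq 1 1 = true from rfl, cond_true]
        show _ = sumM g (2 ^ x.1 ^^^ stp t (a / 2))
        rw [sumM_xor h2, sumM_pow]
      · have hb : Nat.beq (a % 2) 1 = false := by
          rw [← Bool.not_eq_true, Nat.beq_eq]; exact ha
        rw [if_neg ha, map_zero, zero_add, hb, cond_false]

end mask

/-- the data -/
structure Dat where
  gens : List (List (ℕ × ℕ))
  zt : List (ℕ × ℕ)
  reps : List (List (ℕ × ℕ))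
  tab : List (List (ℕ × ℕ))

/-- the check of the data -/
def Dat.chk (m : ℕ) (D : Dat) : Bool :=
  D.gens.all (vl m) && vl m D.zt && D.reps.all (vl m) && Nat.beq D.gens.length D.tab.length &&
    ((D.gens.zip D.tab).all fun x => Nat.beq D.reps.length x.2.length &&
      (D.reps.zip x.2).all fun y => Nat.blt y.2.1 D.reps.length &&
        cd m (x.1 ++ y.1) == cd m (D.reps.getD y.2.1 [] ++ pwl D.zt y.2.2))

section act
variable {n m : ℕ} [NeZero n] {F : Type*} [Field F] {W : Type*} [AddCommGroup W] [Module F W]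
  (ρ : Representation F ↥(alternatingGroup (Fin n)) W)

/-- the translates -/
noncomputable def gv (D : Dat) (v : W) : List W := D.reps.map fun r => ρ (P n r) v

/-- the sum over a list of words -/
noncomputable def Op (gens : List (List (ℕ × ℕ))) (ws : List (List ℕ)) : W →ₗ[F] W :=
  (ws.map fun w => ρ (P n (wd gens w))).sum

theorem Op_nil (gens : List (List (ℕ × ℕ))) : Op ρ gens [] = 0 := rfl

theorem Op_cons (gens : List (List (ℕ × ℕ))) (w : List ℕ) (ws : List (List ℕ)) (v : W) :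
    Op ρ gens (w :: ws) v = ρ (P n (wd gens w)) v + Op ρ gens ws v := by
  unfold Op
  rw [List.map_cons, List.sum_cons, LinearMap.add_apply]

variable {ρ}

theorem chk_spec {D : Dat} (h : D.chk m = true) : D.gens.all (vl m) = true ∧ vl m D.zt = true ∧
    D.reps.all (vl m) = true ∧ D.gens.length = D.tab.length ∧ ∀ x ∈ D.gens.zip D.tab, D.reps.length = x.2.length ∧
      ∀ y ∈ D.reps.zip x.2, y.2.1 < D.reps.length ∧
        cd m (x.1 ++ y.1) = cd m (D.reps.getD y.2.1 [] ++ pwl D.zt y.2.2) := by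
  unfold Dat.chk at h
  simp only [Bool.and_eq_true, List.all_eq_true, beq_iff_eq, Nat.beq_eq, Nat.blt_eq] at h
  obtain ⟨⟨⟨⟨h1, h2⟩, h3⟩, h4⟩, h5⟩ := h
  exact ⟨List.all_eq_true.2 h1, h2, List.all_eq_true.2 h3, h4, h5⟩

theorem pow_fix {x : ↥(alternatingGroup (Fin n))} {v : W} (h : ρ x v = v) (k : ℕ) : ρ (x ^ k) v = v := by
  induction k with
  | zero => rw [pow_zero, map_one]; rfl
  | succ k ih => rw [pow_succ, map_mul, Module.End.mul_apply, h, ih]

/-- the action of a generator -/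
theorem gen_spec (hm : m ≤ n) (h2 : ∀ w : W, w + w = 0) {D : Dat} (h : D.chk m = true) {v : W}
    (hv : ρ (P n D.zt) v = v) {i : ℕ} (hi : i < D.gens.length) (a : ℕ) :
    ρ (P n (D.gens.getD i [])) (sumM (gv ρ D v) a) = sumM (gv ρ D v) (stp (D.tab.getD i []) a) := by
  obtain ⟨h1, hz, hr, hl, hx⟩ := chk_spec h
  have hi' : i < D.tab.length := hl ▸ hi
  have hmem : (D.gens.getD i [], D.tab.getD i []) ∈ D.gens.zip D.tab := by
    rw [List.getD_eq_getElem _ _ hi, List.getD_eq_getElem _ _ hi', ← List.getElem_zip (h := by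
      rw [List.length_zip]; omega)]
    exact List.getElem_mem _
  obtain ⟨k1, k2⟩ := hx _ hmem
  refine stp_spec h2 (gv ρ D v) (ρ (P n (D.gens.getD i []))).toAddMonoidHom (gv ρ D v) (D.tab.getD i [])
    (by rw [gv, List.length_map]; exact k1) ?_ a
  intro e he
  rw [gv, List.zip_map_left] at he
  obtain ⟨y, hy, rfl⟩ := List.mem_map.1 he
  obtain ⟨j1, j2⟩ := k2 y hy
  have hy1 : vl m y.1 = true := List.all_eq_true.1 hr _ (List.of_mem_zip hy).1
  have hgi : vl m (D.gens.getD i []) = true := vl_getD h1 i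
  have hrj : vl m (D.reps.getD y.2.1 []) = true := vl_getD hr _
  show ρ (P n (D.gens.getD i [])) (ρ (P n y.1) v) = (gv ρ D v).getD y.2.1 0
  have e1 : (gv ρ D v).getD y.2.1 0 = ρ (P n (D.reps.getD y.2.1 [])) v := by
    rw [gv, List.getD_eq_getElem _ _ (by rw [List.length_map]; exact j1), List.getElem_map, List.getD_eq_getElem _ _ j1]
  rw [e1, ← Module.End.mul_apply, ← map_mul, ← P_append hm hgi hy1,
    (P_eq_iff hm (vl_append hgi hy1) (vl_append hrj (vl_pwl hz _))).2 j2, P_append hm hrj (vl_pwl hz _), map_mul,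
    Module.End.mul_apply, P_pwl hm hz, pow_fix hv]

/-- words in the generators -/
def wok (D : Dat) (ws : List (List ℕ)) : Bool := ws.all fun w => w.all fun i => Nat.blt i D.gens.length

theorem word_spec (hm : m ≤ n) (h2 : ∀ w : W, w + w = 0) {D : Dat} (h : D.chk m = true) {v : W}
    (hv : ρ (P n D.zt) v = v) {w : List ℕ} (hw : (w.all fun i => Nat.blt i D.gens.length) = true) (a : ℕ) :
    ρ (P n (wd D.gens w)) (sumM (gv ρ D v) a) = sumM (gv ρ D v) (stps D.tab w a) := by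
  obtain ⟨h1, hz, hr, hl, hx⟩ := chk_spec h
  induction w with
  | nil =>
    rw [wd_nil, P_nil, map_one]
    rfl
  | cons i w ih =>
    rw [List.all_cons, Bool.and_eq_true, Nat.blt_eq] at hw
    rw [wd_cons, P_append hm (vl_getD h1 i) (vl_wd h1 w), map_mul, Module.End.mul_apply, ih hw.2,
      gen_spec hm h2 h hv hw.1]
    rfl

/-- **evaluation** -/
theorem eval (hm : m ≤ n) (h2 : ∀ w : W, w + w = 0) {D : Dat} (h : D.chk m = true) {v : W}
    (hv : ρ (P n D.zt) v = v) {ws : List (List ℕ)} (hw : wok D ws = true) (a : ℕ) :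
    Op ρ D.gens ws (sumM (gv ρ D v) a) = sumM (gv ρ D v) (sms D.tab ws a) := by
  induction ws with
  | nil =>
    rw [Op_nil, LinearMap.zero_apply]
    exact (sumM_zero _).symm
  | cons w ws ih =>
    unfold wok at hw
    rw [List.all_cons, Bool.and_eq_true] at hw
    rw [Op_cons, word_spec hm h2 h hv hw.1, ih hw.2]
    show _ = sumM (gv ρ D v) (stps D.tab w a ^^^ sms D.tab ws a)
    rw [sumM_xor h2]

/-- the first translate -/
theorem sumM_one {D : Dat} {v : W} {r : List (List (ℕ × ℕ))} (hr : D.reps = [] :: r) : sumM (gv ρ D v) 1 = v := by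
  have h := sumM_pow (gv ρ D v) 0
  rw [pow_zero] at h
  rw [h, gv, hr, List.map_cons, List.getD_cons_zero, P_nil, map_one]
  rfl

end act

end Cfsg.Agent.R2.T1.Msk

private theorem dce_930d48983a18 : _root_.True := by
  try have : _root_.True := by simp only [_root_.Cfsg.Agent.R2.T1.Msk.gv.eq_1]
  exact _root_.True.intro
end
end
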